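import Groth.Agent.DR40.TorGE
import Groth.Agent.FlatModel41.Exactness
import Mathlib.RingTheory.Flat.CategoryTheory

/-!
Exactness of `M ↦ H^p(M ⊗^L F)` on modules over a ring.
-/

set_option autoImplicit false
set_option linter.style.haveILetI false
set_option linter.unusedSectionVars false

universe u

open CategoryTheory CategoryTheory.Limits MonoidalCategory HomologicalComplex
attribute [local instance] HasDerivedCategory.standard

namespace Groth.Agent.StalkExact41

open Groth.Agent.DR39 Groth.Agent.DR40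
open Groth.Agent.FlatModel41 (HFun preservesFiniteColimits_iff_succ preservesFiniteLimits_iff_mono mono_opcyclesMap)

variable {A : Type u} [CommRing A]

/-- `M ↦ P ⊗ M`, degreewise. -/
noncomputable def GM (P : DRing.Cx A) : ModuleCat.{u} A ⥤ DRing.Cx A where
  obj M := DRing.tensorCx P M
  map {M N} k :=
    { f := fun i => P.X i ◁ k
      comm' := fun i j _ => (whisker_exchange (P.d i j) k) }
  map_id M := by ext i : 1; exact whiskerLeft_id _ _
  map_comp k l := by ext i : 1; exact whiskerLeft_comp _ _ _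

instance (P : DRing.Cx A) : (GM P).Additive where
  map_add := by intros; ext i : 1; exact (tensorLeft (P.X i)).map_add

lemma GM_map_f (P : DRing.Cx A) {M N : ModuleCat.{u} A} (k : M ⟶ N) (i : ℤ) :
    ((GM P).map k).f i = P.X i ◁ k := rfl

theorem shortExact_GM (P : DRing.Cx A) (hP : ∀ i, Module.Flat A (P.X i)) (S : ShortComplex (ModuleCat.{u} A))
    (hS : S.ShortExact) : (S.map (GM P)).ShortExact := by
  refine HomologicalComplex.shortExact_of_degreewise_shortExact _ fun i => ?_
  haveI := hP i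
  exact hS.map_of_exact (tensorLeft (P.X i))

section Opcycles

variable (P : DRing.Cx A) (q : ℤ)

/-- Opcycles of a tensor product. -/
noncomputable def opIso (M : ModuleCat.{u} A) :
    ((GM P).obj M).opcycles (q + 1) ≅ (tensorRight M).obj (cokernel (P.d q (q + 1))) :=
  IsColimit.coconePointUniqueUpToIso (((GM P).obj M).opcyclesIsCokernel q (q + 1) (by simp))
    (CokernelCofork.mapIsColimit _ (cokernelIsCokernel (P.d q (q + 1))) (tensorRight M))

lemma pOpcycles_opIso (M : ModuleCat.{u} A) :
    ((GM P).obj M).pOpcycles (q + 1) ≫ (opIso P q M).hom = cokernel.π (P.d q (q + 1)) ▷ M :=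
  IsColimit.comp_coconePointUniqueUpToIso_hom (((GM P).obj M).opcyclesIsCokernel q (q + 1) (by simp)) _
    WalkingParallelPair.one

lemma opIso_natural {M N : ModuleCat.{u} A} (k : M ⟶ N) :
    opcyclesMap ((GM P).map k) (q + 1) ≫ (opIso P q N).hom =
      (opIso P q M).hom ≫ cokernel (P.d q (q + 1)) ◁ k := by
  rw [← cancel_epi (((GM P).obj M).pOpcycles (q + 1)), p_opcyclesMap_assoc, pOpcycles_opIso,
    ← Category.assoc, pOpcycles_opIso, GM_map_f]
  exact whisker_exchange (cokernel.π (P.d q (q + 1))) k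

theorem isFlat_cokernel_of_leftExact (hP : ∀ i, Module.Flat A (P.X i))
    (h : PreservesFiniteLimits (HFun (GM P) (q + 1))) : Module.Flat A (cokernel (P.d q (q + 1)) : ModuleCat.{u} A) := by
  have hm := (preservesFiniteLimits_iff_mono (GM P) (shortExact_GM P hP) (q + 1)).1 h
  rw [Module.Flat.iff_lTensor_preserves_injective_linearMap]
  intro M N _ _ _ _ f hf
  let k : ModuleCat.of A M ⟶ ModuleCat.of A N := ModuleCat.ofHom f
  haveI : Mono k := (ModuleCat.mono_iff_injective k).2 hf
  haveI := hm k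
  haveI : Mono (((GM P).map k).f (q + 1 + 1)) := by
    haveI := hP (q + 1 + 1)
    exact inferInstanceAs (Mono ((tensorLeft (P.X (q + 1 + 1))).map k))
  haveI := mono_opcyclesMap ((GM P).map k) (q + 1)
  have h2 : Mono (opcyclesMap ((GM P).map k) (q + 1) ≫ (opIso P q (ModuleCat.of A N)).hom) := mono_comp _ _
  rw [opIso_natural] at h2
  have h3 : Mono ((opIso P q (ModuleCat.of A M)).inv ≫ (opIso P q (ModuleCat.of A M)).hom ≫
      cokernel (P.d q (q + 1)) ◁ k) := mono_comp _ _
  rw [Iso.inv_hom_id_assoc] at h3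
  exact (ModuleCat.mono_iff_injective _).1 h3

end Opcycles

lemma toSingleTensor_natural (P : DRing.Cx A) {M N : ModuleCat.{u} A} (k : M ⟶ N) :
    (GM P).map k ≫ toSingleTensor P N =
      toSingleTensor P M ≫ P ◁ (single (ModuleCat.{u} A) (ComplexShape.up ℤ) 0).map k := by
  ext n : 1
  change (P.X n ◁ k) ≫ (P.X n ◁ (singleObjXSelf (ComplexShape.up ℤ) 0 N).inv) ≫ ιTensorObj P (sgl N) n 0 n _ =
    ((P.X n ◁ (singleObjXSelf (ComplexShape.up ℤ) 0 M).inv) ≫ ιTensorObj P (sgl M) n 0 n _) ≫
      (mapBifunctorMap (𝟙 P) ((single (ModuleCat.{u} A) (ComplexShape.up ℤ) 0).map k)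
        (curriedTensor (ModuleCat.{u} A)) (ComplexShape.up ℤ)).f n
  rw [Category.assoc]
  erw [ι_mapBifunctorMap]
  rw [HomologicalComplex.id_f, CategoryTheory.Functor.map_id, NatTrans.id_app, Category.id_comp,
    ← Category.assoc, ← Category.assoc]
  refine congrArg (· ≫ _) ?_
  erw [← whiskerLeft_comp, ← whiskerLeft_comp]
  refine congrArg (P.X n ◁ ·) ?_
  rw [HomologicalComplex.single_map_f_self, Iso.inv_hom_id_assoc]

/-- The degreewise tensor product is the total complex. -/
noncomputable def gmIso (P : DRing.Cx A) :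
    GM P ≅ HomologicalComplex.single (ModuleCat.{u} A) (ComplexShape.up ℤ) 0 ⋙ tensorLeft P :=
  NatIso.ofComponents (fun M => @asIso _ _ _ _ (toSingleTensor P M) (isIso_toSingleTensor P M)) fun k => toSingleTensor_natural P k

/-- The total complex with the two factors exchanged. -/
noncomputable def symIso (P : DRing.Cx A) : tensorRight P ≅ tensorLeft P :=
  NatIso.ofComponents (fun X => asIso (symm' X P)) fun f => symm'_naturality f P

/-- The derived tensor product through a K-flat model of the fixed complex. -/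
theorem nonempty_LTensorCx_iso (E P : DRing.Cx A) [DRing.HasLTensorCx A E] (hP : DRing.IsKFlat A P) (c : P ⟶ E)
    [QuasiIso c] : Nonempty (tensorRight P ⋙ DerivedCategory.Q ≅ DerivedCategory.Q ⋙ DRing.LTensorCx A E) := by
  let W := HomologicalComplex.quasiIso (ModuleCat.{u} A) (ComplexShape.up ℤ)
  have hF : W.IsInvertedBy (DRing.tensorCxQ A P) := by
    intro F F' φ hφ
    haveI : QuasiIso φ := hφ
    exact (DerivedCategory.isIso_Q_map_iff_quasiIso (ModuleCat.{u} A) _).2 (quasiIso_whiskerRight' hP φ)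
  let FP : Dual.D A ⥤ Dual.D A := Localization.lift (DRing.tensorCxQ A P) hF DerivedCategory.Q
  let fac : DerivedCategory.Q ⋙ FP ≅ DRing.tensorCxQ A P := Localization.fac (DRing.tensorCxQ A P) hF DerivedCategory.Q
  let α : DRing.tensorCxQ A P ⟶ DRing.tensorCxQ A E :=
    Functor.whiskerRight ((curriedTensor (DRing.Cx A)).flip.map c) DerivedCategory.Q
  let LF := DRing.LTensorCx A E
  haveI : LF.IsLeftDerivedFunctor (tensorCxCounit E) W := inferInstance
  let τ : FP ⟶ LF := LF.leftDerivedLift (tensorCxCounit E) W FP (fac.hom ≫ α)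
  have hτ : ∀ X : DRing.Cx A, DRing.IsKFlat A X → IsIso (τ.app (DerivedCategory.Q.obj X)) := by
    intro X hX
    haveI := isIso_tensorCxCounit E X hX
    haveI := quasiIso_whiskerLeft' hX c
    haveI : IsIso (α.app X) :=
      (DerivedCategory.isIso_Q_map_iff_quasiIso (ModuleCat.{u} A) (X ◁ c)).2 inferInstance
    have h : τ.app (DerivedCategory.Q.obj X) ≫ (tensorCxCounit E).app X = (fac.hom ≫ α).app X :=
      LF.leftDerived_fac_app _ W FP _ X
    haveI : IsIso (τ.app (DerivedCategory.Q.obj X) ≫ (tensorCxCounit E).app X) := by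
      rw [h, NatTrans.comp_app]; infer_instance
    exact IsIso.of_isIso_comp_right (τ.app (DerivedCategory.Q.obj X)) ((tensorCxCounit E).app X)
  haveI : ∀ D, IsIso (τ.app D) := fun D => by
    let R := SF.res (DerivedCategory.Q.objPreimage D)
    haveI := hτ R isKFlat_of_isKProjective
    haveI := (DerivedCategory.isIso_Q_map_iff_quasiIso (ModuleCat.{u} A) (SF.aug (DerivedCategory.Q.objPreimage D))).2 inferInstance
    let e : DerivedCategory.Q.obj R ≅ D :=
      asIso (DerivedCategory.Q.map (SF.aug (DerivedCategory.Q.objPreimage D))) ≪≫ DerivedCategory.Q.objObjPreimageIso D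
    exact (NatTrans.isIso_app_iff_of_iso τ e).1 inferInstance
  haveI := NatIso.isIso_of_isIso_app τ
  exact ⟨fac.symm ≪≫ Functor.isoWhiskerLeft _ (asIso τ)⟩

/-- The functor `M ↦ H^p(M ⊗^L F)` through a K-flat model. -/
theorem nonempty_HFun_iso (E P : DRing.Cx A) [DRing.HasLTensorCx A E] (hP : DRing.IsKFlat A P) (c : P ⟶ E)
    [QuasiIso c] (p : ℤ) :
    Nonempty (DerivedCategory.singleFunctor (ModuleCat.{u} A) 0 ⋙ DRing.LTensorCx A E ⋙
      DerivedCategory.homologyFunctor (ModuleCat.{u} A) p ≅ HFun (GM P) p) := by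
  obtain ⟨e⟩ := nonempty_LTensorCx_iso E P hP c
  let eS : DerivedCategory.singleFunctor (ModuleCat.{u} A) 0 ≅
      HomologicalComplex.single (ModuleCat.{u} A) (ComplexShape.up ℤ) 0 ⋙ DerivedCategory.Q :=
    (SingleFunctors.evaluation _ _ 0).mapIso (DerivedCategory.singleFunctorsPostcompQIso (ModuleCat.{u} A))
  exact ⟨Functor.isoWhiskerRight eS _ ≪≫ Functor.associator _ _ _ ≪≫
    Functor.isoWhiskerLeft _ ((Functor.associator _ _ _).symm ≪≫ Functor.isoWhiskerRight e.symm _ ≪≫
      Functor.associator _ _ _ ≪≫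
      Functor.isoWhiskerLeft _ (DerivedCategory.homologyFunctorFactors (ModuleCat.{u} A) p)) ≪≫
    (Functor.associator _ _ _).symm ≪≫
    Functor.isoWhiskerRight (Functor.isoWhiskerLeft _ (symIso P) ≪≫ (gmIso P).symm) _⟩

/-- Left exactness in degree `q + 1` makes the cokernel in a flat model flat. -/
theorem flat_coker_of_leftExact (E P : DRing.Cx A) [DRing.HasLTensorCx A E] (b : ℤ)
    (hb : ∀ i, b < i → IsZero (P.X i)) (hP : ∀ i, Module.Flat A (P.X i)) (c : P ⟶ E) [QuasiIso c] (q p : ℤ)
    (hp : q + 1 = p)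
    [PreservesFiniteLimits (DerivedCategory.singleFunctor (ModuleCat.{u} A) 0 ⋙ DRing.LTensorCx A E ⋙
      DerivedCategory.homologyFunctor (ModuleCat.{u} A) p)] :
    Module.Flat A (cokernel (P.d q p) : ModuleCat.{u} A) := by
  subst hp
  obtain ⟨e⟩ := nonempty_HFun_iso E P (isKFlat_of_flat b hb hP) c (q + 1)
  exact isFlat_cokernel_of_leftExact P q hP (preservesFiniteLimits_of_natIso e)

/-- Right exactness in degree `q` makes the cokernel in a flat model flat. -/
theorem flat_coker_of_rightExact (E P : DRing.Cx A) [DRing.HasLTensorCx A E] (b : ℤ)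
    (hb : ∀ i, b < i → IsZero (P.X i)) (hP : ∀ i, Module.Flat A (P.X i)) (c : P ⟶ E) [QuasiIso c] (q : ℤ)
    [PreservesFiniteColimits (DerivedCategory.singleFunctor (ModuleCat.{u} A) 0 ⋙ DRing.LTensorCx A E ⋙
      DerivedCategory.homologyFunctor (ModuleCat.{u} A) q)] :
    Module.Flat A (cokernel (P.d q (q + 1)) : ModuleCat.{u} A) := by
  obtain ⟨e⟩ := nonempty_HFun_iso E P (isKFlat_of_flat b hb hP) c q
  exact isFlat_cokernel_of_leftExact P q hP ((preservesFiniteColimits_iff_succ (GM P) (shortExact_GM P hP) q).1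
    ((FlatModel41.preservesFiniteColimits_iff_of_iso e).1 inferInstance))

end Groth.Agent.StalkExact41
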