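import Groth.Agent.PerfAmp41.Main
import Groth.Agent.FlatModel41.Exactness
import Groth.Agent.StalkExact41.Module
import Groth.Agent.FDesc60.FlatFree
import Groth.Agent.Div89.RelFlat

/-!
Exactness of `M ↦ H^p(M ⊗^L F)` spreads from a stalk to a neighbourhood.
-/

set_option autoImplicit false
set_option linter.style.haveILetI false
set_option linter.unusedSectionVars false

noncomputable section

universe u

open CategoryTheory Limits AlgebraicGeometry
open Groth.Agent.DCX42 Groth.Agent.PerfAmp41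
attribute [local instance] HasDerivedCategory.standard

namespace Groth.Agent.StalkExact41

variable {X : Scheme.{u}}

section Site

variable {C : Type u} [SmallCategory C] {J : GrothendieckTopology C} {O : Sheaf J CommRingCat.{u}}

open Groth.Agent.Mod48 in
/-- Right exactness through a flat resolution with flat cokernel. -/
theorem rightExact_of_flat_coker (E P : CC O) [ModSite.HasLTensorCx E] (b : ℤ)
    (hb : ∀ i, b < i → IsZero (P.X i)) (hP : ∀ i, ModSite.IsFlat (P.X i)) (c : P ⟶ E) (hc : QuasiIso c) (p : ℤ)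
    (h : ModSite.IsFlat (cokernel (P.d p (p + 1)))) :
    PreservesFiniteColimits (DerivedCategory.singleFunctor (ModSite.Mod O) 0 ⋙ ModSite.LTensorCx E ⋙
      DerivedCategory.homologyFunctor (ModSite.Mod O) p) := by
  haveI := hc
  obtain ⟨e⟩ := FlatModel41.nonempty_HFun_iso E P
    (DCK91.isKFlat_of_le P b ((CochainComplex.isStrictlyLE_iff P b).2 hb) hP) c p
  exact (FlatModel41.preservesFiniteColimits_iff_of_iso e).2
    ((FlatModel41.preservesFiniteColimits_iff_succ (FlatModel41.GE P) (FlatModel41.shortExact_GE P hP) p).2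
      ((FlatModel41.isFlat_cokernel_iff P p hP).1 h))

open Groth.Agent.Mod48 in
/-- Left exactness through a flat resolution with flat cokernel. -/
theorem leftExact_of_flat_coker (E P : CC O) [ModSite.HasLTensorCx E] (b : ℤ)
    (hb : ∀ i, b < i → IsZero (P.X i)) (hP : ∀ i, ModSite.IsFlat (P.X i)) (c : P ⟶ E) (hc : QuasiIso c) (q p : ℤ)
    (hp : q + 1 = p) (h : ModSite.IsFlat (cokernel (P.d q p))) :
    PreservesFiniteLimits (DerivedCategory.singleFunctor (ModSite.Mod O) 0 ⋙ ModSite.LTensorCx E ⋙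
      DerivedCategory.homologyFunctor (ModSite.Mod O) p) := by
  subst hp
  haveI := hc
  obtain ⟨e⟩ := FlatModel41.nonempty_HFun_iso E P
    (DCK91.isKFlat_of_le P b ((CochainComplex.isStrictlyLE_iff P b).2 hb) hP) c (q + 1)
  exact (FlatModel41.preservesFiniteLimits_iff_of_iso e).2 ((FlatModel41.isFlat_cokernel_iff P q hP).1 h)

end Site

section Class

variable (x : X)

instance : PreservesFiniteLimits (DCK91.SP x) := Functor.preservesFiniteLimits_of_preservesHomology _

instance : PreservesFiniteColimits (DCK91.SP x) := Functor.preservesFiniteColimits_of_preservesHomology _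

/-- Modules flat at a point. -/
def flatAtClass : ExactClass X.Modules where
  P M := FlatMod.IsFlatAt M x
  of_iso e h := isFlatAt_of_iso e x h
  of_isZero {M} h := by
    haveI : Subsingleton ((DCK91.SP x).obj M) := ModuleCat.subsingleton_of_isZero ((DCK91.SP x).map_isZero h)
    exact (inferInstance : Module.Flat (X.presheaf.stalk x) ((DCK91.SP x).obj M))
  X₁ S hS h2 h3 := by
    have hS' := hS.map_of_exact (DCK91.SP x)
    haveI : Module.Flat (X.presheaf.stalk x) (S.map (DCK91.SP x)).X₂ := h2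
    haveI : Module.Flat (X.presheaf.stalk x) (S.map (DCK91.SP x)).X₃ := h3
    exact Div89.flat_left _ _ hS'.moduleCat_injective_f hS'.moduleCat_surjective_g
      ((ShortComplex.ShortExact.moduleCat_exact_iff_function_exact _).1 hS'.exact)
  X₂ S hS h1 h3 := by
    have hS' := hS.map_of_exact (DCK91.SP x)
    haveI : Module.Flat (X.presheaf.stalk x) (S.map (DCK91.SP x)).X₁ := h1
    haveI : Module.Flat (X.presheaf.stalk x) (S.map (DCK91.SP x)).X₃ := h3
    exact Div89.flat_middle _ _ hS'.moduleCat_injective_f hS'.moduleCat_surjective_g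
      ((ShortComplex.ShortExact.moduleCat_exact_iff_function_exact _).1 hS'.exact)

end Class

/-- Flatness of the cokernel spreads from a point. -/
theorem exists_nhd_coker_flat {P : CochainComplex X.Modules ℤ} {e : ℤ} (hPb : ∀ i, e < i → IsZero (P.X i))
    (hP : ∀ i, FlatMod.IsFlat (P.X i)) (q : ℤ) (hpc : DCoh.IsPseudoCoherentD q (DCoh.toD X P)) (x : X)
    (hx : FlatMod.IsFlatAt (cokernel (P.d q (q + 1))) x) :
    ∃ U : X.Opens, x ∈ U ∧ ∀ y : X, y ∈ U → FlatMod.IsFlatAt (cokernel (P.d q (q + 1))) y := by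
  rw [DCX42.isPC_iff] at hpc
  obtain ⟨V, hxV, E, α, hE, hα⟩ := hpc x
  obtain ⟨W, β, hxW, -, hpcβ⟩ := exists_rep_map hE (α ≫ (resQ V.ι P).hom) ⟨x, hxV⟩
  obtain ⟨hiso, -⟩ := (pcMap_Q_iff β q).1 (hpcβ _ (hα.comp (PCMap.of_isIso _ _)))
  obtain ⟨⟨a, b₀, hb₀⟩, hEf⟩ := hE
  let E₁ := (resCx W.ι).obj E
  let P₁ := (resCx W.ι).obj ((resCx V.ι).obj P)
  let eP : (Scheme.Modules.restrictFunctor W.ι).obj ((Scheme.Modules.restrictFunctor V.ι).obj (cokernel (P.d q (q + 1)))) ≅
      cokernel (P₁.d q (q + 1)) :=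
    (Scheme.Modules.restrictFunctor W.ι).mapIso (cokerResIso V.ι P q (q + 1)) ≪≫
      cokerResIso W.ι ((resCx V.ι).obj P) q (q + 1)
  have key : ∀ w : W, FlatMod.IsFlatAt (cokernel (E₁.d q (q + 1))) w ↔
      FlatMod.IsFlatAt (cokernel (P.d q (q + 1))) (V.ι (W.ι w)) := fun w => by
    refine ((flatAtClass w).coker_iff_of_iso_homology β q (max b₀ e) (fun i => ?_) (fun i => ?_)
      (fun i hi => ?_) (fun i hi => ?_) hiso).trans ?_
    · exact DCX42.isFlat_of_isFinLocFree (DCX42.isFinLocFree_restrict (hEf i) W.ι) w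
    · exact isFlat_restrict W.ι (isFlat_restrict V.ι (hP i)) w
    · exact (Scheme.Modules.restrictFunctor W.ι).map_isZero (hb₀ i (Or.inr (by omega)))
    · exact (Scheme.Modules.restrictFunctor W.ι).map_isZero
        ((Scheme.Modules.restrictFunctor V.ι).map_isZero (hPb i (by omega)))
    · exact Iff.trans ⟨fun h => isFlatAt_of_iso eP.symm w h, fun h => isFlatAt_of_iso eP w h⟩
        ((isFlatAt_restrict_iff W.ι _ w).trans (isFlatAt_restrict_iff V.ι _ (W.ι w)))
  have hfp : CohB1.IsFP (cokernel (E₁.d q (q + 1))) :=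
    LimTop61.isFP_cokernel _ (Props58.LocFree.isFP_of_isFinLocFree (DCX42.isFinLocFree_restrict (hEf _) W.ι))
      (Props58.LocFree.isFP_of_isFinLocFree (DCX42.isFinLocFree_restrict (hEf _) W.ι))
  obtain ⟨U, hxU, hU⟩ := (FDesc60.isFlatAt_iff_exists_nhd _ hfp ⟨⟨x, hxV⟩, hxW⟩).1 ((key _).2 hx)
  refine ⟨(W.ι ≫ V.ι) ''ᵁ U, ⟨⟨⟨x, hxV⟩, hxW⟩, hxU, rfl⟩, ?_⟩
  rintro y ⟨w, hw, rfl⟩
  exact (key w).1 ((FDesc60.isFlatAt_iff_exists_nhd _ hfp w).2 ⟨U, hw, hU⟩)

lemma isFlatAt_of_stalk_coker {P : CochainComplex X.Modules ℤ} (q r : ℤ) (x : X)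
    (h : Module.Flat (X.presheaf.stalk x) (cokernel (((DCK91.SPc x).obj P).d q r) : ModuleCat.{u} (X.presheaf.stalk x))) :
    FlatMod.IsFlatAt (cokernel (P.d q r)) x := by
  exact @Module.Flat.of_linearEquiv _ _ _ _ _ _ _ _ h (PreservesCokernel.iso (DCK91.SP x) (P.d q r)).toLinearEquiv

lemma isFlat_coker_restrict {P : CochainComplex X.Modules ℤ} (q r : ℤ) (U : X.Opens)
    (h : ∀ y : X, y ∈ U → FlatMod.IsFlatAt (cokernel (P.d q r)) y) :
    ModSite.IsFlat (O := (U : Scheme.{u}).sheaf) (cokernel (((resCx U.ι).obj P).d q r)) :=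
  DCK91.isFlat_of_flatMod _ (PerfAmp41.isFlat_of_iso (cokerResIso U.ι P q r)
    fun w => (isFlatAt_restrict_iff U.ι _ w).2 (h _ w.2))

variable (F : CochainComplex X.Modules ℤ) (e : ℤ) [(DCoh.toD X F).IsLE e] (p : ℤ) (x : X)
  [DRing.HasLTensorCx (X.presheaf.stalk x) (((DerSch.stalkFunctor X x).mapHomologicalComplex (ComplexShape.up ℤ)).obj F)]

lemma exists_res : ∃ (P : CochainComplex X.Modules ℤ) (c : P ⟶ F), (∀ i, e < i → IsZero (P.X i)) ∧
    (∀ i, FlatMod.IsFlat (P.X i)) ∧ QuasiIso c := by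
  haveI : F.IsLE e := (DerivedCategory.isLE_Q_obj_iff F e).1 inferInstance
  obtain ⟨P, c, hPb, hPf, hc⟩ := DCK91.exists_flat_res_le (O := X.sheaf) F e ‹_›
  exact ⟨P, c, hPb, fun i => DCK91.flatMod_of_isFlat _ (hPf i), hc⟩

include e in
theorem exists_nhd_rightExact (hE : DCoh.IsPseudoCoherentD p (DCoh.toD X F))
    [PreservesFiniteColimits (DerivedCategory.singleFunctor (ModuleCat.{u} (X.presheaf.stalk x)) 0 ⋙
      DRing.LTensorCx (X.presheaf.stalk x) (((DerSch.stalkFunctor X x).mapHomologicalComplex (ComplexShape.up ℤ)).obj F) ⋙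
      DerivedCategory.homologyFunctor (ModuleCat.{u} (X.presheaf.stalk x)) p)]
    [∀ U : X.Opens, DCoh.HasLTensorCx ((DCoh.restrictCx U).obj F)] :
    ∃ U : X.Opens, x ∈ U ∧ PreservesFiniteColimits (DerivedCategory.singleFunctor (U : Scheme.{u}).Modules 0 ⋙
      DCoh.LTensorCx ((DCoh.restrictCx U).obj F) ⋙ DerivedCategory.homologyFunctor (U : Scheme.{u}).Modules p) := by
  obtain ⟨P, c, hPb, hP, hc⟩ := exists_res F e
  haveI := hc
  haveI := (DerivedCategory.isIso_Q_map_iff_quasiIso X.Modules c).2 hc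
  have hflat := flat_coker_of_rightExact _ ((DCK91.SPc x).obj P) e (fun i hi => (DCK91.SP x).map_isZero (hPb i hi))
    (fun i => hP i x) ((DCK91.SPc x).map c) p
  obtain ⟨U, hxU, hU⟩ := exists_nhd_coker_flat hPb hP p (isPC_of_iso (asIso (DerivedCategory.Q.map c)).symm hE) x
    (isFlatAt_of_stalk_coker p (p + 1) x hflat)
  haveI : ModSite.HasLTensorCx (O := (U : Scheme.{u}).sheaf) ((DCoh.restrictCx U).obj F) :=
    (inferInstance : DCoh.HasLTensorCx ((DCoh.restrictCx U).obj F))
  have hcU : QuasiIso ((DCoh.restrictCx U).map c) := inferInstance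
  exact ⟨U, hxU, rightExact_of_flat_coker (O := (U : Scheme.{u}).sheaf) ((DCoh.restrictCx U).obj F)
    ((DCoh.restrictCx U).obj P) e (fun i hi => (Scheme.Modules.restrictFunctor U.ι).map_isZero (hPb i hi))
    (fun i => DCK91.isFlat_of_flatMod _ (isFlat_restrict U.ι (hP i))) ((DCoh.restrictCx U).map c) hcU p
    (isFlat_coker_restrict p (p + 1) U hU)⟩

include e in
theorem exists_nhd_leftExact (hE : DCoh.IsPseudoCoherentD (p - 1) (DCoh.toD X F))
    [PreservesFiniteLimits (DerivedCategory.singleFunctor (ModuleCat.{u} (X.presheaf.stalk x)) 0 ⋙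
      DRing.LTensorCx (X.presheaf.stalk x) (((DerSch.stalkFunctor X x).mapHomologicalComplex (ComplexShape.up ℤ)).obj F) ⋙
      DerivedCategory.homologyFunctor (ModuleCat.{u} (X.presheaf.stalk x)) p)]
    [∀ U : X.Opens, DCoh.HasLTensorCx ((DCoh.restrictCx U).obj F)] :
    ∃ U : X.Opens, x ∈ U ∧ PreservesFiniteLimits (DerivedCategory.singleFunctor (U : Scheme.{u}).Modules 0 ⋙
      DCoh.LTensorCx ((DCoh.restrictCx U).obj F) ⋙ DerivedCategory.homologyFunctor (U : Scheme.{u}).Modules p) := by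
  obtain ⟨P, c, hPb, hP, hc⟩ := exists_res F e
  haveI := hc
  haveI := (DerivedCategory.isIso_Q_map_iff_quasiIso X.Modules c).2 hc
  obtain ⟨q, rfl⟩ : ∃ q, p = q + 1 := ⟨p - 1, by omega⟩
  rw [show q + 1 - 1 = q by omega] at hE
  have hflat := flat_coker_of_leftExact _ ((DCK91.SPc x).obj P) e (fun i hi => (DCK91.SP x).map_isZero (hPb i hi))
    (fun i => hP i x) ((DCK91.SPc x).map c) q (q + 1) rfl
  obtain ⟨U, hxU, hU⟩ := exists_nhd_coker_flat hPb hP q (isPC_of_iso (asIso (DerivedCategory.Q.map c)).symm hE) x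
    (isFlatAt_of_stalk_coker q (q + 1) x hflat)
  haveI : ModSite.HasLTensorCx (O := (U : Scheme.{u}).sheaf) ((DCoh.restrictCx U).obj F) :=
    (inferInstance : DCoh.HasLTensorCx ((DCoh.restrictCx U).obj F))
  have hcU : QuasiIso ((DCoh.restrictCx U).map c) := inferInstance
  exact ⟨U, hxU, leftExact_of_flat_coker (O := (U : Scheme.{u}).sheaf) ((DCoh.restrictCx U).obj F)
    ((DCoh.restrictCx U).obj P) e (fun i hi => (Scheme.Modules.restrictFunctor U.ι).map_isZero (hPb i hi))
    (fun i => DCK91.isFlat_of_flatMod _ (isFlat_restrict U.ι (hP i))) ((DCoh.restrictCx U).map c) hcU q (q + 1) rfl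
    (isFlat_coker_restrict q (q + 1) U hU)⟩

end Groth.Agent.StalkExact41
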