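import Groth.Agent.StalkExact41.Spread
import Groth.Agent.DCX42.PerfectRetract
import Groth.Agent.DR39.Balance
import Groth.Agent.DCK91.KFlatStalk

/-!
Pseudo-coherent complexes over schemes whose local rings have finite tor dimension for every module are perfect.
-/

set_option autoImplicit false
set_option linter.style.haveILetI false
set_option linter.unusedSectionVars false

noncomputable section

universe u

open CategoryTheory Limits AlgebraicGeometry
open Groth.Agent.DCX42 Groth.Agent.PerfAmp41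
attribute [local instance] HasDerivedCategory.standard

namespace Groth.Agent.StalkExact41

open Groth.Agent.DR39

/-- Bounded cohomology and finite tor dimension of modules give finite tor amplitude. -/
theorem exists_ta {A : Type u} [CommRing A]
    (h : ∀ (M : Type u) [AddCommGroup M] [Module A M], DRing.HasFiniteTorDim A M)
    {K : Dual.D A} (c d : ℤ) (hd : Acyc (d + 1) K) (hc : ∀ i, i < c → IsZero ((HF A i).obj K)) :
    ∃ a : ℤ, a ≤ c ∧ TA a d K := by
  choose N hN using fun i : ℤ => h ((HF A i).obj K)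
  let S := (Finset.Icc c d).sup N
  refine ⟨c - S, by omega, ta_of_homology hd hc fun i => ?_⟩
  by_cases hi : c ≤ i ∧ i ≤ d
  · have hS : N i ≤ S := Finset.le_sup (f := N) (Finset.mem_Icc.2 hi)
    exact TA.mono ((hasTorDimLE_iff _ (N i)).1 (hN i)) (by omega) (by omega)
  · have hz : IsZero ((HF A i).obj K) := by
      rcases not_and_or.1 hi with h1 | h1
      · exact hc i (by omega)
      · exact hd i (by omega)
    exact ta_of_isZero _ _ ((DerivedCategory.singleFunctor (ModuleCat.{u} A) 0).map_isZero hz)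

variable {X : Scheme.{u}}

theorem isPerfect_of_pc_of_finiteTorDim
    (hX : ∀ (x : X) (M : Type u) [AddCommGroup M] [Module (X.presheaf.stalk x) M],
      DRing.HasFiniteTorDim (X.presheaf.stalk x) M)
    (F : CochainComplex X.Modules ℤ) (c d : ℤ) [(DCoh.toD X F).IsGE c] [(DCoh.toD X F).IsLE d]
    (hpc : ∀ m : ℤ, DCoh.IsPseudoCoherentD m (DCoh.toD X F)) : DCoh.IsPerfect (DCoh.toD X F) := by
  haveI hFge : F.IsGE c := (DerivedCategory.isGE_Q_obj_iff F c).1 inferInstance
  haveI hFle : F.IsLE d := (DerivedCategory.isLE_Q_obj_iff F d).1 inferInstance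
  obtain ⟨P, f, hPb, hP, hf⟩ := exists_res F d
  haveI := hf
  haveI := (DerivedCategory.isIso_Q_map_iff_quasiIso X.Modules f).2 hf
  let e : DCoh.toD X P ≅ DCoh.toD X F := asIso (DerivedCategory.Q.map f)
  have hz : ∀ i, (i < c ∨ d < i) → IsZero (P.homology i) := fun i hi => by
    refine IsZero.of_iso ?_ (isoOfQuasiIsoAt f i)
    rcases hi with hi | hi
    · exact (F.exactAt_iff_isZero_homology i).1 (CochainComplex.exactAt_of_isGE F c i hi)
    · exact (F.exactAt_iff_isZero_homology i).1 (CochainComplex.exactAt_of_isLE F d i hi)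
  rw [DCX42.isPerfect_iff]
  intro x
  let S := (DCK91.SPc x).obj P
  have hSz : ∀ i, (i < c ∨ d < i) → IsZero ((HF (X.presheaf.stalk x) i).obj ((QA _).obj S)) := fun i hi =>
    (isZero_HF_Q_iff S i).2 (((DCK91.SP x).map_isZero (hz i hi)).of_iso ((P.sc i).mapHomologyIso (DCK91.SP x)))
  obtain ⟨a, hac, hta⟩ := exists_ta (hX x) c d (fun i hi => hSz i (Or.inr (by omega)))
    (fun i hi => hSz i (Or.inl hi))
  have hSf : ∀ i, Module.Flat (X.presheaf.stalk x) (S.X i) := fun i => hP i x
  have hlow : LowEx S a := TA.lowEx hta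
    (isKFlat_of_flat d (fun i hi => (DCK91.SP x).map_isZero (hPb i hi)) hSf) (Iso.refl _)
  obtain ⟨q, rfl⟩ : ∃ q, a = q + 1 := ⟨a - 1, by omega⟩
  haveI := hSf (q + 1)
  have h1 := flat_coker S (q + 1) fun M => exT_of_lowEx hlow M (by omega)
  rw [show q + 1 - 1 = q by omega] at h1
  have h2 : Module.Flat (X.presheaf.stalk x) (cokernel (S.d q (q + 1)) : ModuleCat.{u} (X.presheaf.stalk x)) :=
    @Module.Flat.of_linearEquiv _ _ _ _ _ _ _ _ h1 (ModuleCat.cokernelIsoRangeQuotient (S.d q (q + 1))).toLinearEquiv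
  obtain ⟨U, hxU, hU⟩ := exists_nhd_coker_flat hPb hP q (DCX42.isPC_of_iso e.symm (hpc q)) x
    (isFlatAt_of_stalk_coker q (q + 1) x h2)
  let P' := (resCx U.ι).obj P
  have hP' : ∀ i, FlatMod.IsFlat (P'.X i) := fun i => isFlat_restrict U.ι (hP i)
  have hPb' : ∀ i, d < i → IsZero (P'.X i) := fun i hi => (Scheme.Modules.restrictFunctor U.ι).map_isZero (hPb i hi)
  haveI : P'.IsGE (q + 1) := (CochainComplex.isGE_iff _ _).2 fun i hi =>
    exactAt_resCx U.ι ((P.exactAt_iff_isZero_homology i).2 (hz i (Or.inl (by omega))))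
  haveI : P'.IsStrictlyLE d := (CochainComplex.isStrictlyLE_iff _ _).2 hPb'
  have hamp : DCoh.HasFlatAmplitudeIn (q + 1) (max d (q + 1)) ((resD U.ι).obj (DCoh.toD X F)) := by
    refine ⟨P'.truncGE (q + 1), fun i hi => ?_, fun i => ?_,
      ⟨(asIso (DerivedCategory.Q.map (P'.πTruncGE (q + 1)))).symm ≪≫ (resQ U.ι P).symm ≪≫ (resD U.ι).mapIso e⟩⟩
    · rcases hi with hi | hi
      · exact CochainComplex.isZero_of_isStrictlyGE (P'.truncGE (q + 1)) (q + 1) i hi
      · exact CochainComplex.isZero_of_isStrictlyLE (P'.truncGE (q + 1)) d i (by omega)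
    · rcases lt_trichotomy i (q + 1) with hlt | heq | hgt
      · exact DCK91.flatMod_of_isFlat _ (Mod48.isFlat_of_isZero (O := (U : Scheme.{u}).sheaf)
          (CochainComplex.isZero_of_isStrictlyGE (P'.truncGE (q + 1)) (q + 1) i hlt))
      · subst heq
        exact PerfAmp41.isFlat_of_iso (CochainComplex.truncGEXIsoOpcycles P' (q + 1) ≪≫ (cokerOp P' q (q + 1) rfl).symm).symm
          (DCK91.flatMod_of_isFlat _ (isFlat_coker_restrict q (q + 1) U hU))
      · exact PerfAmp41.isFlat_of_iso (CochainComplex.truncGEXIso P' (q + 1) i hgt).symm (hP' i)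
  have hperf := PerfAmp41.isPerfect_of_perfAmp (perfAmp_of_pc_flatAmp (le_max_right d (q + 1))
    (DCX42.isPC_restrict (hpc (q + 1 - 1)) U) hamp)
  rw [DCX42.isPerfect_iff] at hperf
  obtain ⟨W, hxW, hW⟩ := hperf ⟨x, hxU⟩
  exact exists_open_of_pieces (P := fun {_} L => HasPerfRep L) (fun h e => h.of_iso e)
    (fun j _ h => h.restrict j) _ U W hxU hxW hW

theorem isPC_of_isPerfect {K : DCoh.D X} (h : DCoh.IsPerfect K) (m : ℤ) : DCoh.IsPseudoCoherentD m K := by
  rw [DCX42.isPerfect_iff] at h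
  rw [DCX42.isPC_iff]
  intro x
  obtain ⟨V, hx, E, hE, ⟨e⟩⟩ := h x
  exact ⟨V, hx, E, e.inv, hE, PCMap.of_isIso m _⟩

theorem pc_iff_perfect
    (hX : ∀ (x : X) (M : Type u) [AddCommGroup M] [Module (X.presheaf.stalk x) M],
      DRing.HasFiniteTorDim (X.presheaf.stalk x) M)
    (F : CochainComplex X.Modules ℤ) (c d : ℤ) [(DCoh.toD X F).IsGE c] [(DCoh.toD X F).IsLE d] :
    (∀ m : ℤ, DCoh.IsPseudoCoherentD m (DCoh.toD X F)) ↔ DCoh.IsPerfect (DCoh.toD X F) :=
  ⟨isPerfect_of_pc_of_finiteTorDim hX F c d, fun h m => isPC_of_isPerfect h m⟩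

end Groth.Agent.StalkExact41
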